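import Groth.Agent.EtConeLib.Contract
import Groth.Agent.EtRegAcycLib.Strict
import Groth.Agent.EtRegAcycLib.DvrReg
import Groth.Agent.EtLimSmoothLib.Acyclic
import Groth.Agent.EtAcycFibLib.Acyclic
import Groth.Agent.S4450

/-!
# Classes on a product with a connected scheme over an algebraically closed field
-/

set_option autoImplicit false
set_option linter.all false
set_option backward.isDefEq.respectTransparency false
set_option backward.isDefEq.respectTransparency.types false
set_option synthInstance.maxHeartbeats 400000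
set_option maxHeartbeats 2000000

universe u

open CategoryTheory CategoryTheory.Limits AlgebraicGeometry IsLocalRing TensorProduct
open EtConeLib

noncomputable section

namespace HomotPullLib

attribute [local instance] EtSliceLib.pullExact

variable (k : Type u) [Field k] [IsAlgClosed k]

/-- A regular Noetherian algebra over an algebraically closed field is ind-smooth. -/
theorem indSmooth_of_regular (V : Type u) [CommRing V] [IsRegularRing V] [Algebra k V] :
    Smoothing.IndSmooth k V := by
  refine TransLib.indSmooth_of_isRegularHom ⟨inferInstance, fun p _ => ?_⟩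
  have hb : Function.Bijective (algebraMap k p.ResidueField) := by
    haveI : p.IsMaximal := by
      rw [(Ideal.eq_bot_or_top p).resolve_right (Ideal.IsPrime.ne_top inferInstance)]
      exact Ideal.bot_isMaximal
    refine ⟨(algebraMap k p.ResidueField).injective, ?_⟩
    rw [IsScalarTower.algebraMap_eq k (k ⧸ p) p.ResidueField, RingHom.coe_comp]
    exact (p.bijective_algebraMap_quotient_residueField.2).comp Ideal.Quotient.mk_surjective
  let e : p.ResidueField ≃ₐ[k] k := (AlgEquiv.ofBijective (Algebra.ofId k p.ResidueField) hb).symm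
  let E : p.Fiber V ≃ₐ[k] V := (Algebra.TensorProduct.congr e AlgEquiv.refl).trans (Algebra.TensorProduct.lid k V)
  haveI : IsRegularRing (p.Fiber V) := IsRegularRing.of_ringEquiv E.symm.toRingEquiv
  haveI : IsNoetherianRing (p.Fiber V) := isNoetherianRing_of_ringEquiv V E.symm.toRingEquiv
  haveI : IsAlgClosed p.ResidueField := IsAlgClosed.of_ringEquiv _ _ e.symm.toRingEquiv
  exact ⟨inferInstance, KaehlerFlatLib.isGeometricallyRegular_of_perfect⟩

variable {k} {U T : Scheme.{u}} (pU : U ⟶ Spec (CommRingCat.of k)) (pT : T ⟶ Spec (CommRingCat.of k))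

/-- The product with a scheme over the parameter scheme. -/
abbrev W {S : Scheme.{u}} (g : S ⟶ T) : Scheme.{u} := pullback pU (g ≫ pT)

/-- Its map to the product. -/
def mW {S : Scheme.{u}} (g : S ⟶ T) : W pU pT g ⟶ pullback pU pT :=
  pullback.lift (pullback.fst _ _) (pullback.snd _ _ ≫ g) (by rw [Category.assoc]; exact pullback.condition)

/-- Functoriality in the scheme over the parameter scheme. -/
def wMap {S S' : Scheme.{u}} (g : S ⟶ T) (g' : S' ⟶ T) (h : S' ⟶ S) (w : h ≫ g = g') :
    W pU pT g' ⟶ W pU pT g :=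
  pullback.lift (pullback.fst _ _) (pullback.snd _ _ ≫ h) (by
    rw [Category.assoc, ← Category.assoc h, w]; exact pullback.condition)

variable (M : Type) [AddCommGroup M] (i : ℕ) (y : EtCoh.H (pullback pU pT) (EtCoh.const (pullback pU pT) M) i)

/-- The class restricted along `g` is the constant class `m`. -/
def P {S : Scheme.{u}} (g : S ⟶ T) (m : EtCoh.H U (EtCoh.const U M) i) : Prop :=
  cPull M i (mW pU pT g) y = cPull M i (pullback.fst pU (g ≫ pT)) m

variable {pU pT M i y}

theorem P.transfer {S S' : Scheme.{u}} {g : S ⟶ T} {m : EtCoh.H U (EtCoh.const U M) i} (hP : P pU pT M i y g m)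
    (g' : S' ⟶ T) (h : S' ⟶ S) (w : h ≫ g = g') : P pU pT M i y g' m := by
  have e1 : wMap pU pT g g' h w ≫ mW pU pT g = mW pU pT g' := by
    apply pullback.hom_ext
    · rw [Category.assoc, mW, pullback.lift_fst, mW, pullback.lift_fst]
      exact pullback.lift_fst _ _ _
    · rw [Category.assoc, mW, pullback.lift_snd, mW, pullback.lift_snd, wMap, pullback.lift_snd_assoc,
        Category.assoc, w]
  have e2 : wMap pU pT g g' h w ≫ pullback.fst pU (g ≫ pT) = pullback.fst pU (g' ≫ pT) := pullback.lift_fst _ _ _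
  show cPull M i _ y = cPull M i _ m
  rw [← e1, ← e2, ← cPull_comp, ← cPull_comp]
  exact congrArg _ hP

variable (pU pT) {ℓ : ℕ} [Fact ℓ.Prime] (hℓ : (ℓ : k) ≠ 0) (ν : ℕ)

include hℓ in
/-- Cohomology of the product with a strictly henselian regular algebra. -/
theorem bijective_fst [QuasiCompact pU] [QuasiSeparated pU] (V : Type u) [CommRing V] [IsRegularRing V]
    [HenselianLocalRing V] [IsSepClosed (ResidueField V)] (g : Spec (CommRingCat.of V) ⟶ T) :
    Function.Bijective (cPull (ZMod (ℓ ^ ν)) i (pullback.fst pU (g ≫ pT))) := by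
  obtain ⟨φ, hφ⟩ := Spec.map_surjective (g ≫ pT)
  letI : Algebra k V := φ.hom.toAlgebra
  haveI : IsLocalHom (algebraMap k V) := ⟨fun a ha => isUnit_iff_ne_zero.2 fun h0 => not_isUnit_zero
    ((map_zero (algebraMap k V)) ▸ (h0 ▸ ha))⟩
  haveI : IsAlgClosed (ResidueField k) := IsAlgClosed.of_ringEquiv _ _
    (RingEquiv.ofBijective (residue k) ⟨(residue k).injective, Ideal.Quotient.mk_surjective⟩)
  have sq : IsPullback (pullback.fst pU (g ≫ pT)) (pullback.snd pU (g ≫ pT)) pU
      (Spec.map (CommRingCat.ofHom (algebraMap k V))) := by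
    rw [show Spec.map (CommRingCat.ofHom (algebraMap k V)) = g ≫ pT from hφ]
    exact IsPullback.of_hasPullback _ _
  have hF : EtAcyc.IsLTorsion (EtAcyc.primesInvertibleOn (Spec (CommRingCat.of k))) (EtCoh.const U (ZMod (ℓ ^ ν))) := by
    refine EtAcycFibLib.isLTorsion_const Fact.out ?_ ν
    rw [EtLimSmoothLib.primesInvertibleOn_field]
    exact ⟨Fact.out, fun h => hℓ (by rw [h]; exact ringChar.Nat.cast_ringChar)⟩
  exact (bijective_cPull_iff _ _ _).2
    ((EtRegAcycLib.compN_indSmooth (indSmooth_of_regular k V) pU _ _ sq i _ hF).1 i le_rfl)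

theorem isSepClosed_residueField (L : Type u) [Field L] [IsAlgClosed L] : IsSepClosed (ResidueField L) :=
  haveI : IsAlgClosed (ResidueField L) := IsAlgClosed.of_ringEquiv _ _
    (RingEquiv.ofBijective (residue L) ⟨(residue L).injective, Ideal.Quotient.mk_surjective⟩)
  inferInstance

/-- The geometric point at a point of the parameter scheme. -/
def gPt (z : T) : Spec (CommRingCat.of (AlgebraicClosure (T.residueField z))) ⟶ T :=
  Spec.map (CommRingCat.ofHom (algebraMap (T.residueField z) (AlgebraicClosure (T.residueField z)))) ≫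
    T.fromSpecResidueField z

theorem P_pt_of_base {M : Type} [AddCommGroup M] {i : ℕ}
    {y : EtCoh.H (pullback pU pT) (EtCoh.const (pullback pU pT) M) i} {z : T}
    {m : EtCoh.H U (EtCoh.const U M) i} (hP : P pU pT M i y (gPt z) m) (L : Type u) [Field L] [IsAlgClosed L]
    (g : Spec (CommRingCat.of L) ⟶ T) (hg : g.base (closedPoint L) = z) : P pU pT M i y g m := by
  subst hg
  let z := g.base (closedPoint L)
  let a : T.residueField z ⟶ CommRingCat.of L := (Scheme.SpecToEquivOfField L T g).2
  letI : Algebra (T.residueField z) L := a.hom.toAlgebra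
  let σ : AlgebraicClosure (T.residueField z) →ₐ[T.residueField z] L := IsAlgClosed.lift
  refine hP.transfer g (Spec.map (CommRingCat.ofHom σ.toRingHom)) ?_
  have e : CommRingCat.ofHom (algebraMap (T.residueField z) (AlgebraicClosure (T.residueField z))) ≫
      CommRingCat.ofHom σ.toRingHom = a := CommRingCat.hom_ext σ.comp_algebraMap
  rw [gPt, ← Category.assoc, ← Spec.map_comp, e]
  exact (Scheme.SpecToEquivOfField L T).symm_apply_apply g

variable [QuasiCompact pU] [QuasiSeparated pU] {i : ℕ}
  (y : EtCoh.H (pullback pU pT) (EtCoh.const (pullback pU pT) (ZMod (ℓ ^ ν))) i)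

include hℓ in
theorem P_unique (L : Type u) [Field L] [IsAlgClosed L] (g : Spec (CommRingCat.of L) ⟶ T)
    {m m' : EtCoh.H U (EtCoh.const U (ZMod (ℓ ^ ν))) i} (h : P pU pT _ i y g m) (h' : P pU pT _ i y g m') : m = m' :=
  haveI := isSepClosed_residueField L
  (bijective_fst pU pT hℓ ν L g).1 (h.symm.trans h')

include hℓ in
theorem exists_P (z : T) : ∃ m, P pU pT (ZMod (ℓ ^ ν)) i y (gPt z) m := by
  haveI := isSepClosed_residueField (AlgebraicClosure (T.residueField z))
  obtain ⟨m, hm⟩ := (bijective_fst pU pT hℓ ν _ (gPt z)).2 (cPull _ i (mW pU pT (gPt z)) y)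
  exact ⟨m, hm.symm⟩

include hℓ in
theorem eq_of_specializes [IsLocallyNoetherian T] (z z' : T) (hsp : z ⤳ z')
    {m m' : EtCoh.H U (EtCoh.const U (ZMod (ℓ ^ ν))) i}
    (hm : P pU pT _ i y (gPt z) m) (hm' : P pU pT _ i y (gPt z') m') : m = m' := by
  by_cases he : z' = z
  · subst he
    exact P_unique pU pT hℓ ν y _ (gPt z') hm hm'
  obtain ⟨A, h, hA, hc, hh⟩ := Groth.Agent.S4450.result (𝟙 T) z z' hsp he
  haveI := hA
  let V := HenselLib.SH A
  have hS : Hensel.IsStrictHenselization A V := inferInstance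
  haveI := hS.henselian
  haveI : IsSepClosed (ResidueField V) := hS.isSepClosure.sep_closed
  obtain ⟨t, ht⟩ := IsDiscreteValuationRing.exists_irreducible A
  haveI : IsNoetherianRing V := (Groth.Agent.S0540.result A V).1 inferInstance
  have hmV : maximalIdeal V = Ideal.span {algebraMap A V t} := by
    rw [← PairHensLib.map_maximalIdeal_of_isStrictHenselization A V, ht.maximalIdeal_eq, Ideal.map_span,
      Set.image_singleton]
  haveI : Module.Flat A V := HenselLib.flat_hens (HenselLib.ker_scθ A)
  have hreg : algebraMap A V t ∈ nonZeroDivisors V := by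
    rw [mem_nonZeroDivisors_iff_right]
    intro w hw
    exact (Module.Flat.isSMulRegular_of_isRegular (M := V) (isRegular_of_ne_zero ht.ne_zero)).right_eq_zero_of_smul
      (by rw [Algebra.smul_def, mul_comm]; exact hw)
  obtain ⟨hd, hv⟩ := HensDvrCdLib.isDomain_dvr V (algebraMap A V t) hmV hreg
  haveI := hd
  haveI := hv
  let gV : Spec (CommRingCat.of V) ⟶ T := Spec.map (CommRingCat.ofHom (algebraMap A V)) ≫ h
  obtain ⟨mV, hmV'⟩ := (bijective_fst pU pT hℓ ν V gV).2 (cPull _ i (mW pU pT gV) y)
  have hP : P pU pT _ i y gV mV := hmV'.symm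
  have hloc : IsLocalHom (algebraMap A V) := inferInstance
  have hflatinj : Function.Injective (algebraMap A V) := by
    refine (injective_iff_map_eq_zero _).2 fun a ha => by_contra fun h0 => ?_
    obtain ⟨n, v, rfl⟩ := IsDiscreteValuationRing.eq_unit_mul_pow_irreducible h0 ht
    rw [map_mul, map_pow] at ha
    exact mul_ne_zero (v.isUnit.map (algebraMap A V)).ne_zero
      (pow_ne_zero n (nonZeroDivisors.ne_zero hreg)) ha
  have hz : m = mV := by
    let L := AlgebraicClosure (FractionRing V)
    let c : CommRingCat.of V ⟶ CommRingCat.of L := CommRingCat.ofHom (algebraMap V L)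
    refine P_unique pU pT hℓ ν y L (Spec.map c ≫ gV) (P_pt_of_base pU pT hm L _ ?_) (hP.transfer _ _ rfl)
    let c' : CommRingCat.of A ⟶ CommRingCat.of L := CommRingCat.ofHom (algebraMap A V) ≫ c
    have hgen : Spec.map c' (closedPoint L) = Spec.map (CommRingCat.ofHom A.subtype) (closedPoint _) := by
      refine PrimeSpectrum.ext ?_
      show Ideal.comap c'.hom (maximalIdeal L) = Ideal.comap A.subtype (maximalIdeal _)
      rw [maximalIdeal_eq_bot, maximalIdeal_eq_bot]
      have h1 : Function.Injective c'.hom :=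
        ((algebraMap (FractionRing V) L).injective.comp (IsFractionRing.injective V (FractionRing V))).comp hflatinj
      rw [← RingHom.ker_eq_comap_bot, ← RingHom.ker_eq_comap_bot, (RingHom.injective_iff_ker_eq_bot _).1 h1,
        (RingHom.injective_iff_ker_eq_bot _).1 (Subtype.val_injective (p := fun w => w ∈ A))]
    have e1 : (Spec.map c ≫ gV).base (closedPoint L) = h.base (Spec.map c' (closedPoint L)) := by
      simp only [gV, c', Spec.map_comp, Scheme.Hom.comp_apply]
    rw [e1, hgen]
    have e2 := congrArg (fun q : Spec (CommRingCat.of (T.residueField z)) ⟶ T => q.base (closedPoint _)) hh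
    refine e2.trans ?_
    exact (Scheme.Hom.comp_apply _ _ _).trans (T.fromSpecResidueField_apply z _)
  have hz' : m' = mV := by
    let L := AlgebraicClosure (ResidueField V)
    let c : CommRingCat.of V ⟶ CommRingCat.of L := CommRingCat.ofHom ((algebraMap (ResidueField V) L).comp (residue V))
    refine P_unique pU pT hℓ ν y L (Spec.map c ≫ gV) (P_pt_of_base pU pT hm' L _ ?_) (hP.transfer _ _ rfl)
    let c' : CommRingCat.of A ⟶ CommRingCat.of L := CommRingCat.ofHom (algebraMap A V) ≫ c
    have e1 : (Spec.map c ≫ gV).base (closedPoint L) = h.base (Spec.map c' (closedPoint L)) := by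
      simp only [gV, c', Spec.map_comp, Scheme.Hom.comp_apply]
    have hcl : Spec.map c' (closedPoint L) = closedPoint A := by
      refine PrimeSpectrum.ext ?_
      show Ideal.comap c'.hom (maximalIdeal L) = maximalIdeal A
      rw [maximalIdeal_eq_bot]
      show Ideal.comap ((((algebraMap (ResidueField V) L).comp (residue V))).comp (algebraMap A V)) ⊥ = _
      rw [← Ideal.comap_comap, ← Ideal.comap_comap,
        Ideal.comap_bot_of_injective _ (algebraMap (ResidueField V) L).injective, ← RingHom.ker_eq_comap_bot, ker_residue]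
      exact ((local_hom_TFAE (algebraMap A V)).out 0 4).1 hloc
    rw [e1, hcl, hc]
  exact hz.trans hz'.symm

include hℓ in
/-- The class is constant on a connected parameter scheme. -/
theorem eq_of_connected [IsLocallyNoetherian T] [CompactSpace T] [ConnectedSpace T] (z z' : T)
    {m m' : EtCoh.H U (EtCoh.const U (ZMod (ℓ ^ ν))) i}
    (hm : P pU pT _ i y (gPt z) m) (hm' : P pU pT _ i y (gPt z') m') : m = m' := by
  haveI : IsNoetherian T := {}
  choose mm hmm using exists_P pU pT hℓ ν y
  have key : ∀ a b : T, a ⤳ b → mm a = mm b := fun a b hab =>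
    eq_of_specializes pU pT hℓ ν y a b hab (hmm a) (hmm b)
  have hclosed : ∀ S : Set T, (∀ a b, a ⤳ b → (a ∈ S ↔ b ∈ S)) → IsClosed S := by
    intro S hS
    have hfin := TopologicalSpace.NoetherianSpace.finite_irreducibleComponents (α := T)
    have hu : S = ⋃ C ∈ {C ∈ irreducibleComponents T | C ⊆ S}, C := by
      refine Set.Subset.antisymm (fun x hx => ?_) (Set.iUnion₂_subset fun C hC => hC.2)
      have hC := irreducibleComponent_mem_irreducibleComponents x
      obtain ⟨η, hη⟩ := QuasiSober.sober isIrreducible_irreducibleComponent (isClosed_irreducibleComponent (x := x))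
      refine Set.mem_biUnion ⟨hC, fun w hw => ?_⟩ mem_irreducibleComponent
      exact (hS η w (hη.specializes hw)).1 ((hS η x (hη.specializes mem_irreducibleComponent)).2 hx)
    rw [hu]
    exact Set.Finite.isClosed_biUnion (hfin.subset fun C hC => hC.1) fun C hC =>
      isClosed_of_mem_irreducibleComponents C hC.1
  let S : Set T := {a | mm a = mm z}
  have hS : ∀ a b, a ⤳ b → (a ∈ S ↔ b ∈ S) := fun a b hab => by
    show mm a = mm z ↔ mm b = mm z
    rw [key a b hab]
  have hclopen : IsClopen S := ⟨hclosed S hS, by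
    rw [← isClosed_compl_iff]
    exact hclosed Sᶜ fun a b hab => not_congr (hS a b hab)⟩
  have hz : z' ∈ S := by
    rw [hclopen.eq_univ ⟨z, rfl⟩]
    trivial
  rw [P_unique pU pT hℓ ν y _ (gPt z) hm (hmm z), P_unique pU pT hℓ ν y _ (gPt z') hm' (hmm z')]
  exact hz.symm

include hℓ in
/-- The class at a rational point is read off on the slice. -/
theorem P_slice (t : Spec (CommRingCat.of k) ⟶ T) (ht : t ≫ pT = 𝟙 _) (s : U ⟶ pullback pU pT)
    (hs : s ≫ pullback.fst pU pT = 𝟙 U) (hs' : s ≫ pullback.snd pU pT = pU ≫ t) :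
    P pU pT (ZMod (ℓ ^ ν)) i y (gPt (t.base (closedPoint k))) (cPull (ZMod (ℓ ^ ν)) i s y) := by
  have hk : P pU pT (ZMod (ℓ ^ ν)) i y t (cPull (ZMod (ℓ ^ ν)) i s y) := by
    have e : mW pU pT t = pullback.fst pU (t ≫ pT) ≫ s := by
      apply pullback.hom_ext
      · rw [mW, pullback.lift_fst, Category.assoc, hs, Category.comp_id]
      · rw [mW, pullback.lift_snd, Category.assoc, hs', ← Category.assoc]
        refine congrArg (· ≫ t) ?_
        refine (?_ : _ = (pullback.snd pU (t ≫ pT) ≫ (t ≫ pT))).trans pullback.condition.symm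
        exact (Category.comp_id _).symm.trans (congrArg (pullback.snd pU (t ≫ pT) ≫ ·) ht.symm)
    show cPull _ i _ y = cPull _ i _ _
    rw [cPull_comp, e]
  obtain ⟨m, hm⟩ := exists_P pU pT hℓ ν y (t.base (closedPoint k))
  let L := AlgebraicClosure k
  let g : Spec (CommRingCat.of L) ⟶ T := Spec.map (CommRingCat.ofHom (algebraMap k L)) ≫ t
  have hbase : g.base (closedPoint L) = t.base (closedPoint k) :=
    congrArg t.base (Subsingleton.elim (α := Spec (CommRingCat.of k)) _ _)
  have e1 : m = cPull (ZMod (ℓ ^ ν)) i s y :=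
    P_unique pU pT hℓ ν y L g (P_pt_of_base pU pT hm L g hbase) (hk.transfer g _ rfl)
  exact e1 ▸ hm

include hℓ in
/-- Homotopic maps induce the same map on cohomology. -/
theorem cPull_eq_of_homotopic [IsLocallyNoetherian T] [CompactSpace T] [ConnectedSpace T] {V : Scheme.{u}}
    (H : pullback pU pT ⟶ V) (t₀ t₁ : Spec (CommRingCat.of k) ⟶ T) (ht₀ : t₀ ≫ pT = 𝟙 _) (ht₁ : t₁ ≫ pT = 𝟙 _)
    (s₀ s₁ : U ⟶ pullback pU pT)
    (hs₀ : s₀ ≫ pullback.fst pU pT = 𝟙 U) (hs₀' : s₀ ≫ pullback.snd pU pT = pU ≫ t₀)
    (hs₁ : s₁ ≫ pullback.fst pU pT = 𝟙 U) (hs₁' : s₁ ≫ pullback.snd pU pT = pU ≫ t₁)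
    (x : EtCoh.H V (EtCoh.const V (ZMod (ℓ ^ ν))) i) :
    cPull (ZMod (ℓ ^ ν)) i (s₀ ≫ H) x = cPull (ZMod (ℓ ^ ν)) i (s₁ ≫ H) x := by
  rw [← cPull_comp, ← cPull_comp]
  exact eq_of_connected pU pT hℓ ν _ _ _ (P_slice pU pT hℓ ν _ t₀ ht₀ s₀ hs₀ hs₀')
    (P_slice pU pT hℓ ν _ t₁ ht₁ s₁ hs₁ hs₁')

end HomotPullLib
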